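import Cfsg.Prelude.Def_TwoFusion
import Cfsg.Agent.Lib.Perm.SylowGenerators
import Mathlib.GroupTheory.PGroup
import Mathlib.GroupTheory.Perm.Finite

/-!
# Decompositions of the even part of `C₂ ≀ Q`

Vocabulary for deciding the direct decomposability of the Sylow 2-subgroups of alternating groups:
these are the even parts of `C₂ ≀ Q` with `Q` a Sylow 2-subgroup of a smaller symmetric group.
-/

set_option autoImplicit false

namespace CfsgLib.Perm.SylowTwoDecomp

open CfsgLib.Perm.SylowGen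

section Abstract

variable {G G' : Type*} [Group G] [Group G']

/-- `H` is the internal direct product of two nontrivial subgroups. -/
def Dec (H : Subgroup G) : Prop :=
  ∃ S₁ S₂ : Subgroup G, S₁ ≠ ⊥ ∧ S₂ ≠ ⊥ ∧ Cfsg.IsInternalDirectProduct S₁ S₂ H

theorem dec_map_iff {f : G →* G'} (hf : Function.Injective f) (H : Subgroup G) :
    Dec (H.map f) ↔ Dec H := by
  constructor
  · rintro ⟨S₁, S₂, h1, h2, l1, l2, hc, hi, hs⟩
    have key : ∀ S : Subgroup G', S ≤ H.map f → (S.comap f).map f = S := fun S hS =>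
      Subgroup.map_comap_eq_self (hS.trans (Subgroup.map_le_range f H))
    refine ⟨S₁.comap f, S₂.comap f, ?_, ?_, ?_, ?_, ?_, ?_, ?_⟩
    · intro h; exact h1 (by rw [← key S₁ l1, h, Subgroup.map_bot])
    · intro h; exact h2 (by rw [← key S₂ l2, h, Subgroup.map_bot])
    · exact (Subgroup.comap_mono l1).trans (Subgroup.comap_map_eq_self_of_injective hf H).le
    · exact (Subgroup.comap_mono l2).trans (Subgroup.comap_map_eq_self_of_injective hf H).le
    · intro a ha b hb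
      apply hf
      rw [map_mul, map_mul]
      exact hc _ ha _ hb
    · apply Subgroup.map_injective hf
      rw [Subgroup.map_inf_eq _ _ _ hf, key S₁ l1, key S₂ l2, hi, Subgroup.map_bot]
    · apply Subgroup.map_injective hf
      rw [Subgroup.map_sup, key S₁ l1, key S₂ l2, hs]
  · rintro ⟨S₁, S₂, h1, h2, l1, l2, hc, hi, hs⟩
    refine ⟨S₁.map f, S₂.map f, ?_, ?_, Subgroup.map_mono l1, Subgroup.map_mono l2, ?_, ?_, ?_⟩
    · rwa [Ne, Subgroup.map_eq_bot_iff_of_injective _ hf]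
    · rwa [Ne, Subgroup.map_eq_bot_iff_of_injective _ hf]
    · rintro _ ⟨a, ha, rfl⟩ _ ⟨b, hb, rfl⟩
      rw [← map_mul, ← map_mul, hc a ha b hb]
    · rw [← Subgroup.map_inf_eq _ _ _ hf, hi, Subgroup.map_bot]
    · rw [← Subgroup.map_sup, hs]

variable {S₁ S₂ H : Subgroup G}

theorem exists_mul (hd : Cfsg.IsInternalDirectProduct S₁ S₂ H) {x : G} (hx : x ∈ H) :
    ∃ a ∈ S₁, ∃ b ∈ S₂, x = a * b := by
  obtain ⟨-, -, hc, -, hs⟩ := hd
  rw [← hs] at hx
  have hn : S₁ ≤ Subgroup.normalizer (S₂ : Set G) := fun a ha => by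
    rw [Subgroup.mem_normalizer_iff]
    intro b
    constructor
    · intro hb
      rwa [hc a ha b hb, mul_inv_cancel_right]
    · intro hb
      have h := hc a ha _ hb
      have e : a * b * a⁻¹ = b := by
        have h' : a * (a * b * a⁻¹) = a * b := by rw [h, inv_mul_cancel_right]
        exact mul_left_cancel h'
      rwa [e] at hb
  have := Subgroup.coe_mul_of_left_le_normalizer_right S₁ S₂ hn
  rw [← SetLike.mem_coe, this, Set.mem_mul] at hx
  obtain ⟨a, ha, b, hb, rfl⟩ := hx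
  exact ⟨a, ha, b, hb, rfl⟩

theorem symm (hd : Cfsg.IsInternalDirectProduct S₁ S₂ H) :
    Cfsg.IsInternalDirectProduct S₂ S₁ H :=
  ⟨hd.2.1, hd.1, fun a ha b hb => (hd.2.2.1 b hb a ha).symm,
    by rw [inf_comm]; exact hd.2.2.2.1, by rw [sup_comm]; exact hd.2.2.2.2⟩

theorem conj_mem (hd : Cfsg.IsInternalDirectProduct S₁ S₂ H) {h s : G} (hh : h ∈ H)
    (hs : s ∈ S₁) : h * s * h⁻¹ ∈ S₁ := by
  obtain ⟨a, ha, b, hb, rfl⟩ := exists_mul hd hh
  have : a * b * s * (a * b)⁻¹ = a * s * a⁻¹ := by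
    rw [mul_assoc a b s, ← hd.2.2.1 s hs b hb]
    group
  rw [this]
  exact S₁.mul_mem (S₁.mul_mem ha hs) (S₁.inv_mem ha)

theorem commutator_mem_of_abelian (hd : Cfsg.IsInternalDirectProduct S₁ S₂ H)
    (hab : ∀ b ∈ S₂, ∀ b' ∈ S₂, b * b' = b' * b) {x y : G} (hx : x ∈ H) (hy : y ∈ H) :
    x * y * x⁻¹ * y⁻¹ ∈ S₁ := by
  obtain ⟨a, ha, b, hb, rfl⟩ := exists_mul hd hx
  obtain ⟨a', ha', b', hb', rfl⟩ := exists_mul hd hy
  have c1 : Commute a' b := hd.2.2.1 a' ha' b hb
  have c2 : Commute a b' := hd.2.2.1 a ha b' hb'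
  have c3 : Commute b b' := hab b hb b' hb'
  have : a * b * (a' * b') * (a * b)⁻¹ * (a' * b')⁻¹ = a * a' * a⁻¹ * a'⁻¹ := by
    calc a * b * (a' * b') * (a * b)⁻¹ * (a' * b')⁻¹
        = a * (b * a') * (b' * b⁻¹) * a⁻¹ * b'⁻¹ * a'⁻¹ := by group
      _ = a * (a' * b) * (b⁻¹ * b') * a⁻¹ * b'⁻¹ * a'⁻¹ := by
          rw [← c1.eq, (c3.symm.inv_right).eq]
      _ = a * a' * (b' * a⁻¹) * b'⁻¹ * a'⁻¹ := by group
      _ = a * a' * (a⁻¹ * b') * b'⁻¹ * a'⁻¹ := by rw [← c2.inv_left.eq]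
      _ = a * a' * a⁻¹ * a'⁻¹ := by group
  rw [this]
  exact S₁.mul_mem (S₁.mul_mem (S₁.mul_mem ha ha') (S₁.inv_mem ha)) (S₁.inv_mem ha')

theorem exists_central [Finite G] (hd : Cfsg.IsInternalDirectProduct S₁ S₂ H)
    (hH : IsPGroup 2 H) (hS : S₁ ≠ ⊥) :
    ∃ s ∈ S₁, s ≠ 1 ∧ ∀ h ∈ H, h * s = s * h := by
  classical
  let A : MulAction H ↥S₁ :=
    { smul := fun h s => ⟨(h : G) * (s : G) * (h : G)⁻¹, conj_mem hd h.2 s.2⟩
      one_smul := fun s => Subtype.ext (show (1 : G) * s * (1 : G)⁻¹ = s by group)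
      mul_smul := fun h k s => Subtype.ext
        (show ((h : G) * k) * s * ((h : G) * k)⁻¹ = h * (k * s * (k : G)⁻¹) * (h : G)⁻¹ by group) }
  letI := A
  have h2 : 2 ∣ Nat.card ↥S₁ := by
    obtain ⟨k, hk⟩ := IsPGroup.iff_card.1 (hH.to_le hd.1)
    rcases k with _ | k
    · exact absurd (Subgroup.eq_bot_of_card_eq _ (by simpa using hk)) hS
    · exact ⟨2 ^ k, by rw [hk]; ring⟩
  have h1 : (1 : ↥S₁) ∈ MulAction.fixedPoints ↥H ↥S₁ := fun h =>
    Subtype.ext (show (h : G) * 1 * (h : G)⁻¹ = 1 by group)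
  obtain ⟨s, hs, hne⟩ := hH.exists_fixed_point_of_prime_dvd_card_of_fixed_point ↥S₁ h2 h1
  refine ⟨s, s.2, fun h => hne (Subtype.ext h.symm), fun h hh => ?_⟩
  have := congrArg Subtype.val (hs ⟨h, hh⟩)
  change h * (s : G) * h⁻¹ = s at this
  exact mul_inv_eq_iff_eq_mul.1 this

/-- A 2-group with at most one central involution-like element is indecomposable. -/
theorem not_dec_of_center [Finite G] (hH : IsPGroup 2 H)
    (hu : ∀ x ∈ H, ∀ y ∈ H, x ≠ 1 → y ≠ 1 → (∀ h ∈ H, h * x = x * h) →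
      (∀ h ∈ H, h * y = y * h) → x = y) : ¬ Dec H := by
  rintro ⟨S₁, S₂, h1, h2, hd⟩
  obtain ⟨x, hx, hx1, hxc⟩ := exists_central hd hH h1
  obtain ⟨y, hy, hy1, hyc⟩ := exists_central (symm hd) hH h2
  obtain rfl := hu x (hd.1 hx) y (hd.2.1 hy) hx1 hy1 hxc hyc
  have : x ∈ S₁ ⊓ S₂ := ⟨hx, hy⟩
  rw [hd.2.2.2.1, Subgroup.mem_bot] at this
  exact hx1 this

end Abstract

section Model

variable {α : Type*} [Fintype α] [DecidableEq α]

/-- The element of the wreath product with base part `f` and top part `g`. -/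
def elt (f : α → ZMod 2) (g : Equiv.Perm α) : Equiv.Perm (α × ZMod 2) :=
  base (p := 2) (Multiplicative.ofAdd f) * lift g

theorem elt_mul (f f' : α → ZMod 2) (g g' : Equiv.Perm α) :
    elt f g * elt f' g' = elt (f + f' ∘ g.symm) (g * g') := by
  rw [elt, elt, elt, ofAdd_add, map_mul, map_mul, mul_assoc, ← mul_assoc (lift g), lift_mul_base]
  group

theorem elt_one : elt (0 : α → ZMod 2) 1 = 1 := by simp [elt]

theorem elt_inj {f f' : α → ZMod 2} {g g' : Equiv.Perm α} (h : elt f g = elt f' g') :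
    f = f' ∧ g = g' := by
  have hg : g = g' := Equiv.ext fun a => by
    have := congrArg (fun e => (e (a, (0 : ZMod 2))).1) h
    simpa [elt, lift_apply, base_apply] using this
  refine ⟨funext fun a => ?_, hg⟩
  have := congrArg (fun e => (e (g.symm a, (0 : ZMod 2))).2) h
  subst hg
  simpa [elt, lift_apply, base_apply] using this

theorem elt_eq_one {f : α → ZMod 2} {g : Equiv.Perm α} (h : elt f g = 1) : f = 0 ∧ g = 1 :=
  elt_inj (h.trans elt_one.symm)

theorem elt_inv (f : α → ZMod 2) (g : Equiv.Perm α) :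
    (elt f g)⁻¹ = elt ((-f) ∘ g) g⁻¹ := by
  apply inv_eq_of_mul_eq_one_left
  rw [elt_mul, inv_mul_cancel, ← elt_one]
  congr 1
  funext a
  simp [Equiv.Perm.inv_def, CharTwo.add_self_eq_zero]

/-- The commutator with a base element. -/
theorem elt_comm_base (f v : α → ZMod 2) (g : Equiv.Perm α) :
    elt f g * elt v 1 * (elt f g)⁻¹ * (elt v 1)⁻¹ = elt (v ∘ g.symm + v) 1 := by
  rw [mul_inv_eq_iff_eq_mul, mul_inv_eq_iff_eq_mul, elt_mul, elt_mul, elt_mul, mul_one, one_mul,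
    one_mul]
  congr 1
  funext a
  simp only [Pi.add_apply, Function.comp_apply, Equiv.Perm.one_symm, Equiv.Perm.one_apply]
  have : ∀ x y z : ZMod 2, x + y = y + z + z + x := by decide
  exact this (f a) (v (g.symm a)) (v a)

theorem sign_elt (f : α → ZMod 2) (g : Equiv.Perm α) :
    Equiv.Perm.sign (elt f g) = if ∑ a, f a = 0 then 1 else -1 := by
  have hb : base (p := 2) (Multiplicative.ofAdd f)
      = Equiv.prodCongrRight fun a => Equiv.addLeft (f a) := by
    ext x <;> simp [base_apply]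
  have h1 : ∀ t : ZMod 2, Equiv.Perm.sign (Equiv.addLeft t) = if t = 0 then 1 else -1 := by decide
  have h2 : Equiv.Perm.sign g ^ 2 = 1 := by
    rcases Int.units_eq_one_or (Equiv.Perm.sign g) with h | h <;> simp [h]
  rw [elt, map_mul, sign_lift, h2, mul_one, hb, Equiv.Perm.sign_prodCongrRight]
  simp only [h1]
  induction (Finset.univ : Finset α) using Finset.induction_on with
  | empty => simp
  | insert a s ha ih =>
    rw [Finset.prod_insert ha, Finset.sum_insert ha, ih]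
    have key : ∀ x y : ZMod 2, ((if x = 0 then (1 : ℤˣ) else -1) * if y = 0 then 1 else -1)
        = if x + y = 0 then 1 else -1 := by decide
    exact key _ _

variable (Q : Subgroup (Equiv.Perm α))

/-- The even part of `C₂ ≀ Q`. -/
def evenWreath : Subgroup (Equiv.Perm (α × ZMod 2)) :=
  wreath (p := 2) Q ⊓ alternatingGroup (α × ZMod 2)

theorem mem_evenWreath {x : Equiv.Perm (α × ZMod 2)} :
    x ∈ evenWreath Q ↔ ∃ f g, g ∈ Q ∧ ∑ a, f a = 0 ∧ x = elt f g := by
  rw [evenWreath, Subgroup.mem_inf, Equiv.Perm.mem_alternatingGroup]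
  constructor
  · rintro ⟨⟨f, g, hg, rfl⟩, hs⟩
    refine ⟨f, g, hg, ?_, rfl⟩
    have := sign_elt f g
    change Equiv.Perm.sign (elt f g) = 1 at hs
    rw [hs] at this
    by_contra h
    rw [if_neg h] at this
    exact absurd this (by decide)
  · rintro ⟨f, g, hg, hf, rfl⟩
    exact ⟨⟨f, g, hg, rfl⟩, by rw [sign_elt, if_pos hf]⟩

variable {Q}

theorem elt_mem {f : α → ZMod 2} {g : Equiv.Perm α} :
    elt f g ∈ evenWreath Q ↔ g ∈ Q ∧ ∑ a, f a = 0 := by
  rw [mem_evenWreath]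
  constructor
  · rintro ⟨f', g', hg, hf, h⟩
    obtain ⟨rfl, rfl⟩ := elt_inj h
    exact ⟨hg, hf⟩
  · exact fun h => ⟨f, g, h.1, h.2, rfl⟩

/-- The indicator of two points. -/
def two (x y : α) : α → ZMod 2 := fun a => (if a = x then 1 else 0) + (if a = y then 1 else 0)

theorem sum_two (x y : α) : ∑ a, two x y a = 0 := by
  simp only [two, Finset.sum_add_distrib, Finset.sum_ite_eq', Finset.mem_univ, if_true]
  decide

theorem two_mem (x y : α) : elt (two x y) 1 ∈ evenWreath Q :=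
  elt_mem.2 ⟨Q.one_mem, sum_two x y⟩

theorem top_mem {g : Equiv.Perm α} (hg : g ∈ Q) : elt (0 : α → ZMod 2) g ∈ evenWreath Q :=
  elt_mem.2 ⟨hg, by simp⟩

/-- Central elements lie in the base and are constant on orbits. -/
theorem central_form (hα : 3 ≤ Fintype.card α) {x : Equiv.Perm (α × ZMod 2)}
    (hx : x ∈ evenWreath Q) (hc : ∀ h ∈ evenWreath Q, h * x = x * h) :
    ∃ f, x = elt f 1 ∧ ∑ a, f a = 0 ∧ ∀ g ∈ Q, f ∘ g.symm = f := by
  obtain ⟨f, g, hg, hf, rfl⟩ := (mem_evenWreath Q).1 hx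
  have hg1 : g = 1 := by
    by_contra hne
    obtain ⟨a, ha⟩ : ∃ a, g a ≠ a := by
      by_contra h; push Not at h; exact hne (Equiv.ext h)
    obtain ⟨y, hy⟩ : ∃ y, y ∉ ({a, g a} : Finset α) := by
      by_contra h; push Not at h
      have := Finset.card_le_card (s := Finset.univ) (fun y _ => h y)
      have h2 : ({a, g a} : Finset α).card ≤ 2 := Finset.card_le_two
      rw [Finset.card_univ] at this
      omega
    have h := hc _ (two_mem a y)
    rw [elt_mul, elt_mul] at h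
    have h' := congrFun (elt_inj h).1 (g a)
    simp only [Finset.mem_insert, Finset.mem_singleton, not_or] at hy
    simp [two, ha, Ne.symm hy.2, Ne.symm hy.1, Equiv.Perm.one_symm] at h'
  subst hg1
  refine ⟨f, rfl, hf, fun k hk => ?_⟩
  have h := hc _ (top_mem hk)
  rw [elt_mul, elt_mul] at h
  simpa using (elt_inj h).1

theorem isPGroup_evenWreath (hQ : IsPGroup 2 Q) : IsPGroup 2 (evenWreath Q) := by
  obtain ⟨k, hk⟩ := IsPGroup.iff_card.1 hQ
  refine IsPGroup.to_le (IsPGroup.of_card (n := Fintype.card α + k) ?_) inf_le_left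
  rw [card_wreath, hk, pow_add]

end Model

end CfsgLib.Perm.SylowTwoDecomp
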