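import Cfsg.Agent.Lib.Perm.Basic
import Mathlib.GroupTheory.PGroup
import Mathlib.GroupTheory.Perm.Finite
import Mathlib.GroupTheory.Sylow
import Mathlib.Tactic

/-!
# Restrictions inside Sylow 2-subgroups of symmetric groups

A maximal 2-subgroup of a symmetric group contains the restriction of each of its elements to each
invariant set; consequences for fixed points, orbits and involutions.
-/

set_option autoImplicit false
set_option linter.style.haveILetI false

namespace CfsgLib.Perm.SylowTwoDecomp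

variable {α : Type*} [Fintype α] [DecidableEq α]

/-- The permutation agreeing with `g` on an invariant set and fixing the rest. -/
def restr (Q : Subgroup (Equiv.Perm α)) (S : Finset α) (hS : ∀ g ∈ Q, ∀ a, g a ∈ S ↔ a ∈ S) :
    Q →* Equiv.Perm α where
  toFun g := Equiv.Perm.ofSubtype ((g : Equiv.Perm α).subtypePerm (hS g g.2) :
    Equiv.Perm {a // a ∈ S})
  map_one' := by
    ext a
    by_cases h : a ∈ S
    · exact Equiv.Perm.ofSubtype_apply_of_mem _ h
    · exact Equiv.Perm.ofSubtype_apply_of_not_mem _ h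
  map_mul' g h := by
    rw [← map_mul]
    rfl

theorem restr_of_mem {Q : Subgroup (Equiv.Perm α)} {S : Finset α}
    (hS : ∀ g ∈ Q, ∀ a, g a ∈ S ↔ a ∈ S) (g : Q) {a : α} (ha : a ∈ S) :
    restr Q S hS g a = (g : Equiv.Perm α) a := by
  exact Equiv.Perm.ofSubtype_apply_of_mem _ ha

theorem restr_of_not_mem {Q : Subgroup (Equiv.Perm α)} {S : Finset α}
    (hS : ∀ g ∈ Q, ∀ a, g a ∈ S ↔ a ∈ S) (g : Q) {a : α} (ha : a ∉ S) :
    restr Q S hS g a = a := by
  exact Equiv.Perm.ofSubtype_apply_of_not_mem _ ha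

variable (Q : Sylow 2 (Equiv.Perm α))

theorem restr_mem {S : Finset α}
    (hS : ∀ g ∈ (Q : Subgroup (Equiv.Perm α)), ∀ a, g a ∈ S ↔ a ∈ S) (g : ↥(Q : Subgroup (Equiv.Perm α))) :
    restr (Q : Subgroup (Equiv.Perm α)) S hS g ∈ (Q : Subgroup (Equiv.Perm α)) := by
  set R := (restr (Q : Subgroup (Equiv.Perm α)) S hS).range
  have hR : IsPGroup 2 R := by
    show IsPGroup 2 (restr (Q : Subgroup (Equiv.Perm α)) S hS).range
    rw [MonoidHom.range_eq_map]
    exact (Q.isPGroup'.of_equiv Subgroup.topEquiv.symm).map _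
  have hQR : (Q : Subgroup (Equiv.Perm α)) ≤ Subgroup.normalizer (R : Set (Equiv.Perm α)) := by
    intro k hk
    have key : ∀ h : (Q : Subgroup (Equiv.Perm α)), k * restr (Q : Subgroup (Equiv.Perm α)) S hS h * k⁻¹ = restr (Q : Subgroup (Equiv.Perm α)) S hS (⟨k, hk⟩ * h * ⟨k, hk⟩⁻¹) := by
      intro h
      ext a
      have hinv := hS k⁻¹ ((Q : Subgroup (Equiv.Perm α)).inv_mem hk) a
      simp only [Equiv.Perm.mul_apply]
      by_cases ha : a ∈ S
      · rw [restr_of_mem hS _ (hinv.2 ha), restr_of_mem hS _ ha]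
        rfl
      · rw [restr_of_not_mem hS _ (mt hinv.1 ha), restr_of_not_mem hS _ ha]
        simp
    rw [Subgroup.mem_normalizer_iff]
    intro x
    constructor
    · rintro ⟨h, rfl⟩
      exact ⟨_, (key h).symm⟩
    · rintro ⟨h, hh⟩
      refine ⟨⟨k, hk⟩⁻¹ * h * ⟨k, hk⟩, ?_⟩
      have h2 := key (⟨k, hk⟩⁻¹ * h * ⟨k, hk⟩)
      have : (⟨k, hk⟩ : (Q : Subgroup (Equiv.Perm α))) * (⟨k, hk⟩⁻¹ * h * ⟨k, hk⟩) * ⟨k, hk⟩⁻¹ = h := by group
      rw [this, hh] at h2
      exact mul_left_cancel (mul_right_cancel h2)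
  have := Q.is_maximal' (IsPGroup.to_sup_of_normal_right' Q.isPGroup' hR hQR) le_sup_left
  exact this.le (Subgroup.mem_sup_right (MonoidHom.mem_range.2 ⟨g, rfl⟩))

/-- Parity: a set stable under a 2-group, none of whose points is fixed, has even size. -/
theorem even_card_of_fixed_point_free {H : Subgroup (Equiv.Perm α)} (hH : IsPGroup 2 H)
    (U : Finset α) (hU : ∀ g ∈ H, ∀ a ∈ U, g a ∈ U) (hf : ∀ a ∈ U, ∃ g ∈ H, g a ≠ a) :
    (U.card : ZMod 2) = 0 := by
  let act : MulAction H {a // a ∈ U} :=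
    { smul := fun g a => ⟨(g : Equiv.Perm α) a.1, hU g g.2 a.1 a.2⟩
      one_smul := fun a => Subtype.ext rfl
      mul_smul := fun g h a => Subtype.ext rfl }
  letI := act
  haveI : IsEmpty (MulAction.fixedPoints H {a // a ∈ U}) :=
    ⟨fun a => by
      obtain ⟨g, hg, hne⟩ := hf a.1.1 a.1.2
      exact hne (congrArg Subtype.val (a.2 ⟨g, hg⟩))⟩
  have := hH.card_modEq_card_fixedPoints {a // a ∈ U}
  rw [Nat.card_of_isEmpty (α := MulAction.fixedPoints H {a // a ∈ U}), Nat.card_eq_fintype_card,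
    Fintype.card_coe] at this
  rw [ZMod.natCast_eq_zero_iff]
  exact Nat.modEq_zero_iff_dvd.1 this

theorem sum_eq_zero_of_invariant {H : Subgroup (Equiv.Perm α)} (hH : IsPGroup 2 H)
    (T : Finset α) (hT : ∀ g ∈ H, ∀ a ∈ T, g a ∈ T) (hf : ∀ a ∈ T, ∃ g ∈ H, g a ≠ a)
    (f : α → ZMod 2) (hinv : ∀ g ∈ H, ∀ a, f (g a) = f a) : ∑ a ∈ T, f a = 0 := by
  have key : ∀ t : ZMod 2, t = if t = 1 then 1 else 0 := by decide
  rw [Finset.sum_congr rfl (fun a _ => key (f a)), Finset.sum_boole]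
  refine even_card_of_fixed_point_free hH _ (fun g hg a ha => ?_) (fun a ha => ?_)
  · rw [Finset.mem_filter] at ha ⊢
    exact ⟨hT g hg a ha.1, by rw [hinv g hg]; exact ha.2⟩
  · exact hf a (Finset.mem_filter.1 ha).1

/-- A Sylow 2-subgroup of a symmetric group has at most one fixed point. -/
theorem fixed_unique {x y : α} (hx : ∀ g ∈ (Q : Subgroup (Equiv.Perm α)), g x = x)
    (hy : ∀ g ∈ (Q : Subgroup (Equiv.Perm α)), g y = y) : x = y := by
  by_contra hne
  set Q' := (Q : Subgroup (Equiv.Perm α))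
  have hZ : IsPGroup 2 (Subgroup.zpowers (Equiv.swap x y)) := by
    refine IsPGroup.of_card (n := 1) ?_
    rw [Nat.card_zpowers, pow_one]
    refine orderOf_eq_prime ?_ (fun h => hne (Equiv.swap_eq_one_iff.1 h))
    rw [pow_two, Equiv.swap_mul_self]
  have hn : Q' ≤ Subgroup.normalizer (Subgroup.zpowers (Equiv.swap x y) : Set (Equiv.Perm α)) := by
    intro g hg
    have e : Equiv.swap x y * g = g * Equiv.swap x y := by
      rw [Equiv.mul_swap_eq_swap_mul, hx g hg, hy g hg]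
    apply Subgroup.centralizer_le_normalizer
    rw [Subgroup.mem_centralizer_iff]
    rintro z ⟨i, rfl⟩
    exact (Commute.zpow_left e i).eq
  have := Q.is_maximal' (IsPGroup.to_sup_of_normal_right' Q.isPGroup' hZ hn) le_sup_left
  have h2 := hx _ (this.le (Subgroup.mem_sup_right (Subgroup.mem_zpowers _)))
  rw [Equiv.swap_apply_left] at h2
  exact hne h2.symm

/-- In odd degree there is a fixed point. -/
theorem exists_fixed (hodd : Odd (Fintype.card α)) :
    ∃ x, ∀ g ∈ (Q : Subgroup (Equiv.Perm α)), g x = x := by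
  by_contra h
  push Not at h
  have := even_card_of_fixed_point_free Q.isPGroup' Finset.univ (fun _ _ _ _ => Finset.mem_univ _)
    (fun a _ => h a)
  rw [Finset.card_univ, ZMod.natCast_eq_zero_iff] at this
  rw [Nat.odd_iff] at hodd
  omega

/-- In even degree there is no fixed point. -/
theorem no_fixed (hev : Even (Fintype.card α)) (x : α) :
    ∃ g ∈ (Q : Subgroup (Equiv.Perm α)), g x ≠ x := by
  by_contra h
  push Not at h
  have hu : ∀ a ∈ Finset.univ.erase x, ∃ g ∈ (Q : Subgroup (Equiv.Perm α)), g a ≠ a := by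
    intro a ha
    by_contra h'
    push Not at h'
    exact (Finset.mem_erase.1 ha).1 (fixed_unique Q h' h)
  have := even_card_of_fixed_point_free Q.isPGroup' (Finset.univ.erase x)
    (fun g hg a ha => Finset.mem_erase.2 ⟨fun e => (Finset.mem_erase.1 ha).1
      (g.injective (e.trans (h g hg).symm)), Finset.mem_univ _⟩) hu
  rw [Finset.card_erase_of_mem (Finset.mem_univ x), Finset.card_univ,
    ZMod.natCast_eq_zero_iff] at this
  have hpos : 0 < Fintype.card α := Fintype.card_pos_iff.2 ⟨x⟩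
  rw [Nat.even_iff] at hev
  omega

/-- The orbit of a point, as a finite set. -/
noncomputable def orb (x : α) : Finset α := by
  classical
  exact Finset.univ.filter fun a => ∃ g ∈ (Q : Subgroup (Equiv.Perm α)), g x = a

theorem mem_orb {x a : α} :
    a ∈ orb Q x ↔ ∃ g ∈ (Q : Subgroup (Equiv.Perm α)), g x = a := by
  simp [orb]

theorem orb_inv (x : α) : ∀ g ∈ (Q : Subgroup (Equiv.Perm α)), ∀ a, g a ∈ orb Q x ↔ a ∈ orb Q x := by
  intro g hg a
  rw [mem_orb, mem_orb]
  constructor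
  · rintro ⟨k, hk, hka⟩
    exact ⟨g⁻¹ * k, Subgroup.mul_mem _ (Subgroup.inv_mem _ hg) hk,
      by rw [Equiv.Perm.mul_apply, hka]; simp⟩
  · rintro ⟨k, hk, rfl⟩
    exact ⟨g * k, Subgroup.mul_mem _ hg hk, rfl⟩

theorem self_mem_orb (x : α) : x ∈ orb Q x := (mem_orb Q).2 ⟨1, Subgroup.one_mem _, rfl⟩

/-- A nontrivial orbit carries an involution of the Sylow subgroup, free on it and trivial
elsewhere. -/
theorem exists_free_involution {x : α} (hx : ∃ g ∈ (Q : Subgroup (Equiv.Perm α)), g x ≠ x) :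
    ∃ z ∈ (Q : Subgroup (Equiv.Perm α)), (∀ a, z (z a) = a) ∧
      (∀ a ∈ orb Q x, z a ≠ a) ∧ ∀ a ∉ orb Q x, z a = a := by
  set Q' := (Q : Subgroup (Equiv.Perm α))
  set ρ := restr Q' (orb Q x) (orb_inv Q x)
  obtain ⟨g, hg, hgx⟩ := hx
  have hR : IsPGroup 2 ρ.range := IsPGroup.to_le Q.isPGroup' (by
    rintro _ ⟨h, rfl⟩; exact restr_mem Q (orb_inv Q x) h)
  haveI : Nontrivial ρ.range := by
    refine ⟨⟨⟨ρ ⟨g, hg⟩, _, rfl⟩, 1, fun h => hgx ?_⟩⟩
    have := congrArg (fun e : ρ.range => (e : Equiv.Perm α) x) h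
    simp only [ρ, OneMemClass.coe_one, Equiv.Perm.one_apply] at this
    rwa [restr_of_mem (orb_inv Q x) ⟨g, hg⟩ (self_mem_orb Q x)] at this
  haveI : Fact (Nat.Prime 2) := ⟨Nat.prime_two⟩
  haveI := hR.center_nontrivial
  obtain ⟨k, hk⟩ := IsPGroup.iff_card.1 (hR.to_subgroup (Subgroup.center ρ.range))
  have hd : 2 ∣ Nat.card (Subgroup.center ρ.range) := by
    rcases k with _ | k
    · have := Finite.one_lt_card (α := Subgroup.center ρ.range)
      simp [hk] at this
    · exact ⟨2 ^ k, by rw [hk]; ring⟩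
  obtain ⟨z, hz⟩ := exists_prime_orderOf_dvd_card' 2 hd
  obtain ⟨h, hh⟩ := (z : ρ.range).2
  have hzz : ((z : ρ.range) : Equiv.Perm α) * (z : ρ.range) = 1 := by
    have := pow_orderOf_eq_one z
    rw [hz, pow_two] at this
    exact congrArg (fun e : Subgroup.center ρ.range => ((e : ρ.range) : Equiv.Perm α)) this
  have hout : ∀ a ∉ orb Q x, ((z : ρ.range) : Equiv.Perm α) a = a := fun a ha => by
    rw [← hh]; exact restr_of_not_mem (orb_inv Q x) h ha
  refine ⟨(z : ρ.range), hh ▸ restr_mem Q (orb_inv Q x) h, fun a => Equiv.congr_fun hzz a, ?_, hout⟩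
  intro a ha hza
  have hall : ((z : ρ.range) : Equiv.Perm α) = 1 := by
    ext b
    by_cases hb : b ∈ orb Q x
    · obtain ⟨u, hu, rfl⟩ := (mem_orb Q).1 ha
      obtain ⟨v, hv, rfl⟩ := (mem_orb Q).1 hb
      let w : Q' := ⟨v * u⁻¹, Q'.mul_mem hv (Q'.inv_mem hu)⟩
      have hw : ρ w (u x) = v x := by
        rw [restr_of_mem (orb_inv Q x) w ha]
        simp [w]
      have hc := congrArg (fun e : ρ.range => (e : Equiv.Perm α) (u x))
        (Subgroup.mem_center_iff.1 z.2 ⟨ρ w, w, rfl⟩)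
      simp only [Subgroup.coe_mul, Equiv.Perm.mul_apply] at hc
      rw [hza, hw] at hc
      simpa using hc.symm
    · simpa using hout b hb
  have h1 : z = 1 := Subtype.ext (Subtype.ext hall)
  rw [h1, orderOf_one] at hz
  exact absurd hz (by decide)

/-- In degree one more than a power of two the non-fixed points form one orbit. -/
theorem transitive_rest {k : ℕ} (hk : 1 ≤ k) (hcard : Fintype.card α = 2 ^ k + 1) {p₀ a b : α}
    (hp : ∀ g ∈ (Q : Subgroup (Equiv.Perm α)), g p₀ = p₀) (ha : a ≠ p₀) (hb : b ≠ p₀) :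
    ∃ g ∈ (Q : Subgroup (Equiv.Perm α)), g a = b := by
  classical
  haveI : Fact (Nat.Prime 2) := ⟨Nat.prime_two⟩
  let β := {c : α // c ≠ p₀}
  have hβ : Nat.card β = 2 ^ k := by
    rw [Nat.card_eq_fintype_card, Fintype.card_subtype_compl, Fintype.card_subtype_eq, hcard,
      Nat.add_sub_cancel]
  haveI : MulAction.IsPretransitive (Equiv.Perm β) β :=
    ⟨fun u v => ⟨Equiv.swap u v, Equiv.swap_apply_left u v⟩⟩
  obtain ⟨Q0⟩ : Nonempty (Sylow 2 (Equiv.Perm β)) := Sylow.nonempty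
  haveI := CfsgLib.Perm.Basic.sylow_isPretransitive hβ Q0
  let ι : Equiv.Perm β →* Equiv.Perm α := Equiv.Perm.ofSubtype
  set R : Subgroup (Equiv.Perm α) := (Q0 : Subgroup (Equiv.Perm β)).map ι with hR
  have hRcard : Nat.card R = 2 ^ (Nat.card (Equiv.Perm α)).factorization 2 := by
    rw [hR, Subgroup.card_map_of_injective Equiv.Perm.ofSubtype_injective,
      Sylow.card_eq_multiplicity, Nat.card_perm, Nat.card_perm, hβ, Nat.card_eq_fintype_card,
      hcard, Nat.factorial_succ, Nat.factorization_mul (by omega) (Nat.factorial_ne_zero _)]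
    have hz : (2 ^ k + 1).factorization 2 = 0 := Nat.factorization_eq_zero_of_not_dvd (by
      have : 2 ∣ 2 ^ k := dvd_pow_self 2 (by omega)
      omega)
    simp [hz]
  obtain ⟨u, hu⟩ := MulAction.exists_smul_eq (Equiv.Perm α) (Sylow.ofCard R hRcard) Q
  have hmem : ∀ y : Equiv.Perm α, y ∈ R → u * y * u⁻¹ ∈ (Q : Subgroup (Equiv.Perm α)) := by
    intro y hy
    rw [← hu, Sylow.coe_subgroup_smul, Sylow.coe_ofCard]
    exact ⟨y, hy, rfl⟩
  have hup : u p₀ = p₀ := by
    refine fixed_unique Q (fun g hg => ?_) hp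
    rw [← hu, Sylow.coe_subgroup_smul, Sylow.coe_ofCard] at hg
    obtain ⟨y, ⟨y', -, rfl⟩, rfl⟩ := hg
    show (u * ι y' * u⁻¹) (u p₀) = u p₀
    simp only [Equiv.Perm.mul_apply, Equiv.Perm.inv_def, Equiv.symm_apply_apply]
    rw [Equiv.Perm.ofSubtype_apply_of_not_mem y' (show ¬ (p₀ ≠ p₀) from fun h => h rfl)]
  have hne : ∀ c, c ≠ p₀ → u⁻¹ c ≠ p₀ := fun c hc h => hc (by
    rw [← hup, ← h]; simp)
  obtain ⟨g, hg⟩ := MulAction.exists_smul_eq (Q0 : Subgroup (Equiv.Perm β))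
    (⟨u⁻¹ a, hne a ha⟩ : β) ⟨u⁻¹ b, hne b hb⟩
  refine ⟨u * ι g * u⁻¹, hmem _ ⟨g, g.2, rfl⟩, ?_⟩
  have h1 : ι (g : Equiv.Perm β) (u⁻¹ a) = u⁻¹ b :=
    (Equiv.Perm.ofSubtype_apply_of_mem (g : Equiv.Perm β) (hne a ha)).trans
      (congrArg Subtype.val hg)
  rw [Equiv.Perm.mul_apply, Equiv.Perm.mul_apply, h1]
  simp

end CfsgLib.Perm.SylowTwoDecomp
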