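import Cfsg.Agent.Lib.Perm.SylowTwoDecomp.Basic
import Cfsg.Agent.Lib.Perm.SylowTwoDecomp.Restrict

/-!
# When is the even part of `C₂ ≀ Q` decomposable?

For `Q` a Sylow 2-subgroup of a symmetric group of degree `m ≥ 3`: exactly when `m` is odd and
`m - 1` is not a power of two.
-/

set_option autoImplicit false

namespace CfsgLib.Perm.SylowTwoDecomp

variable {α : Type*} [Fintype α] [DecidableEq α] (Q : Sylow 2 (Equiv.Perm α))

/-- In even degree, transitive case. -/
theorem not_dec_transitive (hα : 3 ≤ Fintype.card α)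
    (htr : ∀ a b : α, ∃ g ∈ (Q : Subgroup (Equiv.Perm α)), g a = b) :
    ¬ Dec (evenWreath (Q : Subgroup (Equiv.Perm α))) := by
  refine not_dec_of_center (isPGroup_evenWreath Q.isPGroup') ?_
  intro x hx y hy hx1 hy1 hxc hyc
  obtain ⟨f, rfl, -, hf⟩ := central_form hα hx hxc
  obtain ⟨f', rfl, -, hf'⟩ := central_form hα hy hyc
  have key : ∀ F : α → ZMod 2, elt F 1 ≠ 1 →
      (∀ g ∈ (Q : Subgroup (Equiv.Perm α)), F ∘ g.symm = F) → F = fun _ => 1 := by
    intro F hne hF
    have hc : ∀ a b, F a = F b := fun a b => by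
      obtain ⟨g, hg, rfl⟩ := htr a b
      have := congrFun (hF g hg) (g a)
      simpa using this
    funext a
    by_contra ha
    have h0 : F a = 0 := (show ∀ t : ZMod 2, t ≠ 1 → t = 0 by decide) _ ha
    exact hne (by rw [show F = 0 from funext fun b => (hc b a).trans h0, elt_one])
  rw [key f hx1 hf, key f' hy1 hf']

/-- In odd degree with a single nontrivial orbit. -/
theorem not_dec_odd (hα : 3 ≤ Fintype.card α) (hodd : Odd (Fintype.card α)) {p₀ : α}
    (htr : ∀ a b : α, a ≠ p₀ → b ≠ p₀ → ∃ g ∈ (Q : Subgroup (Equiv.Perm α)), g a = b) :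
    ¬ Dec (evenWreath (Q : Subgroup (Equiv.Perm α))) := by
  refine not_dec_of_center (isPGroup_evenWreath Q.isPGroup') ?_
  intro x hx y hy hx1 hy1 hxc hyc
  obtain ⟨f, rfl, hf0, hf⟩ := central_form hα hx hxc
  obtain ⟨f', rfl, hf0', hf'⟩ := central_form hα hy hyc
  have key : ∀ F : α → ZMod 2, elt F 1 ≠ 1 → ∑ a, F a = 0 →
      (∀ g ∈ (Q : Subgroup (Equiv.Perm α)), F ∘ g.symm = F) →
      F = fun a => if a = p₀ then 0 else 1 := by
    intro F hne hs hF
    obtain ⟨b, hb⟩ := Fintype.exists_ne_of_one_lt_card (by omega) p₀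
    have hc : ∀ a, a ≠ p₀ → F a = F b := fun a ha => by
      obtain ⟨g, hg, rfl⟩ := htr b a hb ha
      have := congrFun (hF g hg) (g b)
      simpa using this.symm
    have he : ∑ a ∈ Finset.univ.erase p₀, F a = 0 := by
      rw [Finset.sum_congr rfl fun a ha => hc a (Finset.mem_erase.1 ha).1, Finset.sum_const,
        nsmul_eq_mul, Finset.card_erase_of_mem (Finset.mem_univ _), Finset.card_univ]
      obtain ⟨m, hm⟩ := hodd
      rw [hm, Nat.add_sub_cancel, Nat.cast_mul]
      simp [show (2 : ZMod 2) = 0 from rfl]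
    have hp : F p₀ = 0 := by
      rw [← Finset.add_sum_erase _ _ (Finset.mem_univ p₀), he, add_zero] at hs
      exact hs
    have hb1 : F b = 1 := by
      by_contra h
      have h0 : F b = 0 := (show ∀ t : ZMod 2, t ≠ 1 → t = 0 by decide) _ h
      refine hne ?_
      rw [show F = 0 from funext fun a => ?_, elt_one]
      rcases eq_or_ne a p₀ with rfl | ha
      · exact hp
      · exact (hc a ha).trans h0
    funext a
    split_ifs with h
    · rw [h, hp]
    · rw [hc a h, hb1]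
  rw [key f hx1 hf0 hf, key f' hy1 hf0' hf']

/-- The indicator of a nontrivial proper orbit is a commutator. -/
theorem orb_indicator {x y : α} (hx : ∃ g ∈ (Q : Subgroup (Equiv.Perm α)), g x ≠ x)
    (hy : y ∉ orb Q x) :
    ∃ a ∈ evenWreath (Q : Subgroup (Equiv.Perm α)), ∃ b ∈ evenWreath (Q : Subgroup (Equiv.Perm α)),
      a * b * a⁻¹ * b⁻¹ = elt (fun c => if c ∈ orb Q x then 1 else 0) 1 := by
  obtain ⟨z, hzQ, hzz, hz1, hz2⟩ := exists_free_involution Q hx
  let e := Fintype.equivFin α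
  let w : α → ZMod 2 := fun c => if c ∈ orb Q x ∧ e c < e (z c) then 1 else 0
  let v : α → ZMod 2 := fun c => w c + if c = y then ∑ a, w a else 0
  have hv : ∑ a, v a = 0 := by
    simp only [v, Finset.sum_add_distrib, Finset.sum_ite_eq', Finset.mem_univ, if_true]
    exact CharTwo.add_self_eq_zero _
  refine ⟨elt 0 z, top_mem hzQ, elt v 1, elt_mem.2 ⟨Subgroup.one_mem _, hv⟩, ?_⟩
  rw [elt_comm_base]
  congr 1
  funext c
  have hzs : z.symm c = z c := by rw [Equiv.symm_apply_eq, hzz]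
  simp only [Pi.add_apply, Function.comp_apply, hzs]
  by_cases hc : c ∈ orb Q x
  · have hzc : z c ∈ orb Q x := (orb_inv Q x z hzQ c).2 hc
    have hne : c ≠ y := fun h => hy (h ▸ hc)
    have hne' : z c ≠ y := fun h => hy (h ▸ hzc)
    simp only [v, w, if_neg hne, if_neg hne', add_zero, hc, hzc, true_and, hzz, if_true]
    rcases lt_or_gt_of_ne (fun h => hz1 c hc (e.injective h)) with h | h
    · rw [if_pos h, if_neg (not_lt.2 h.le), add_zero]
    · rw [if_neg (not_lt.2 h.le), if_pos h, zero_add]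
  · rw [hz2 c hc, if_neg hc]
    exact CharTwo.add_self_eq_zero _

/-- The base functions in a factor are fixed by the top part of the other factor. -/
theorem fixed_of_commute {S₁ S₂ : Subgroup (Equiv.Perm (α × ZMod 2))}
    {H : Subgroup (Equiv.Perm (α × ZMod 2))} (hd : Cfsg.IsInternalDirectProduct S₁ S₂ H)
    {w f' : α → ZMod 2} {h : Equiv.Perm α} (hw : elt w 1 ∈ S₁) (hh : elt f' h ∈ S₂) (a : α) :
    w (h a) = w a := by
  have := hd.2.2.1 _ hw _ hh
  rw [elt_mul, elt_mul] at this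
  have h2 := congrFun (elt_inj this).1 (h a)
  simp only [Pi.add_apply, Function.comp_apply, Equiv.Perm.one_symm, Equiv.Perm.one_apply,
    Equiv.symm_apply_apply] at h2
  rw [add_comm (f' (h a))] at h2
  exact add_right_cancel h2

/-- A factor contained in the base forces triviality when every nontrivial orbit is proper. -/
theorem eq_bot_of_base (hα : 3 ≤ Fintype.card α)
    (hmove : ∀ x : α, ∃ g ∈ (Q : Subgroup (Equiv.Perm α)), g x ≠ x)
    (hprop : ∀ x : α, ∃ y, y ∉ orb Q x) {S₁ S₂ : Subgroup (Equiv.Perm (α × ZMod 2))}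
    (hd : Cfsg.IsInternalDirectProduct S₁ S₂ (evenWreath (Q : Subgroup (Equiv.Perm α))))
    (hbase : ∀ b ∈ S₂, ∃ f, b = elt f 1) : S₂ = ⊥ := by
  classical
  have hab : ∀ b ∈ S₂, ∀ b' ∈ S₂, b * b' = b' * b := by
    intro b hb b' hb'
    obtain ⟨f, rfl⟩ := hbase b hb
    obtain ⟨f', rfl⟩ := hbase b' hb'
    rw [elt_mul, elt_mul]
    simp only [Equiv.Perm.one_symm, Equiv.Perm.coe_one, Function.comp_id]
    rw [add_comm f f']
  rw [Subgroup.eq_bot_iff_forall]
  intro b hb
  obtain ⟨f, rfl⟩ := hbase b hb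
  have hcen : ∀ h ∈ evenWreath (Q : Subgroup (Equiv.Perm α)), h * elt f 1 = elt f 1 * h := by
    intro h hh
    obtain ⟨a, ha, c, hc, rfl⟩ := exists_mul hd hh
    rw [mul_assoc, hab c hc _ hb, ← mul_assoc, hd.2.2.1 a ha _ hb, mul_assoc]
  obtain ⟨F, hF, -, hinv⟩ := central_form hα (hd.2.1 hb) hcen
  obtain rfl := (elt_inj hF).1
  suffices H : ∀ n, ∀ F : α → ZMod 2, (Finset.univ.filter fun a => F a ≠ 0).card ≤ n →
      (∀ g ∈ (Q : Subgroup (Equiv.Perm α)), F ∘ g.symm = F) → elt F 1 ∈ S₁ by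
    have h1 : elt f 1 ∈ S₁ ⊓ S₂ := ⟨H _ f le_rfl hinv, hb⟩
    rwa [hd.2.2.2.1, Subgroup.mem_bot] at h1
  intro n
  induction n with
  | zero =>
    intro F hF _
    have : F = 0 := funext fun a => by
      by_contra ha
      have : a ∈ Finset.univ.filter fun a => F a ≠ 0 := Finset.mem_filter.2 ⟨Finset.mem_univ _, ha⟩
      rw [Finset.card_eq_zero.1 (Nat.le_zero.1 hF)] at this
      simp at this
    rw [this, elt_one]
    exact S₁.one_mem
  | succ n ih =>
    intro F hF hFi
    by_cases h0 : ∀ a, F a = 0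
    · rw [show F = 0 from funext h0, elt_one]; exact S₁.one_mem
    push Not at h0
    obtain ⟨x, hx⟩ := h0
    have hFO : ∀ a ∈ orb Q x, F a ≠ 0 := by
      intro a ha
      obtain ⟨g, hg, rfl⟩ := (mem_orb Q).1 ha
      have := congrFun (hFi g hg) (g x)
      simp only [Function.comp_apply, Equiv.symm_apply_apply] at this
      rwa [← this]
    set F' : α → ZMod 2 := fun a => if a ∈ orb Q x then 0 else F a
    have hcard : (Finset.univ.filter fun a => F' a ≠ 0).card ≤ n := by
      have hlt : (Finset.univ.filter fun a => F' a ≠ 0).card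
          < (Finset.univ.filter fun a => F a ≠ 0).card := by
        refine Finset.card_lt_card ⟨fun a ha => ?_, fun hsub => ?_⟩
        · simp only [Finset.mem_filter, Finset.mem_univ, true_and] at ha ⊢
          by_cases h : a ∈ orb Q x <;> simp [F', h] at ha ⊢
          exact ha
        · have := hsub (Finset.mem_filter.2 ⟨Finset.mem_univ x, hx⟩)
          simp [F', self_mem_orb Q x] at this
      omega
    have hF'i : ∀ g ∈ (Q : Subgroup (Equiv.Perm α)), F' ∘ g.symm = F' := by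
      intro g hg
      funext a
      have e : g.symm a ∈ orb Q x ↔ a ∈ orb Q x := by
        have := orb_inv Q x g hg (g.symm a)
        rw [Equiv.apply_symm_apply] at this
        exact this.symm
      simp only [Function.comp_apply, F', e]
      rw [show F (g.symm a) = F a from congrFun (hFi g hg) a]
    obtain ⟨y, hy⟩ := hprop x
    obtain ⟨a, ha, c, hc, hac⟩ := orb_indicator Q (hmove x) hy
    have hI := commutator_mem_of_abelian hd hab ha hc
    rw [hac] at hI
    have := S₁.mul_mem hI (ih F' hcard hF'i)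
    rw [elt_mul, mul_one] at this
    convert this using 2
    funext d
    simp only [Pi.add_apply, Function.comp_apply, Equiv.Perm.one_symm, Equiv.Perm.one_apply, F']
    by_cases hd' : d ∈ orb Q x
    · simp only [hd', if_true, add_zero]
      exact (show ∀ t : ZMod 2, t ≠ 0 → t = 1 by decide) _ (hFO d hd')
    · simp only [hd', if_false, zero_add]

/-- In even degree, intransitive case. -/
theorem not_dec_intransitive (hα : 5 ≤ Fintype.card α)
    (hmove : ∀ x : α, ∃ g ∈ (Q : Subgroup (Equiv.Perm α)), g x ≠ x)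
    (hprop : ∀ x : α, ∃ y, y ∉ orb Q x) :
    ¬ Dec (evenWreath (Q : Subgroup (Equiv.Perm α))) := by
  classical
  rintro ⟨S₁, S₂, h1, h2, hd⟩
  have hd' := symm hd
  -- the top parts meet trivially
  have hmeet : ∀ f f' c, elt f c ∈ S₁ → elt f' c ∈ S₂ → c = 1 := by
    intro f f' c hf hf'
    by_contra hne
    obtain ⟨a, ha⟩ : ∃ a, c a ≠ a := by
      by_contra h; push Not at h; exact hne (Equiv.ext h)
    obtain ⟨y, hy⟩ : ∃ y, y ∉ ({a, c a} : Finset α) := by
      by_contra h; push Not at h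
      have := Finset.card_le_card (s := Finset.univ) (fun y _ => h y)
      have h2 : ({a, c a} : Finset α).card ≤ 2 := Finset.card_le_two
      rw [Finset.card_univ] at this
      omega
    simp only [Finset.mem_insert, Finset.mem_singleton, not_or] at hy
    have m1 := S₁.mul_mem hf (conj_mem hd (two_mem a y) (S₁.inv_mem hf))
    have m2 := S₂.mul_mem hf' (conj_mem hd' (two_mem a y) (S₂.inv_mem hf'))
    rw [← mul_assoc, ← mul_assoc, elt_comm_base] at m1 m2
    have : elt (two a y ∘ c.symm + two a y) 1 ∈ S₁ ⊓ S₂ := ⟨m1, m2⟩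
    rw [hd.2.2.2.1, Subgroup.mem_bot] at this
    have h3 := congrFun (elt_eq_one this).1 (c a)
    simp [two, ha, Ne.symm hy.2, Ne.symm hy.1] at h3
  -- decomposition of the base
  have hsplit : ∀ v : α → ZMod 2, ∑ a, v a = 0 →
      ∃ f₁ f₂, elt f₁ 1 ∈ S₁ ∧ elt f₂ 1 ∈ S₂ ∧ v = f₁ + f₂ := by
    intro v hv
    obtain ⟨a, ha, b, hb, hab⟩ := exists_mul hd
      (elt_mem.2 ⟨Subgroup.one_mem _, hv⟩ : elt v 1 ∈ evenWreath (Q : Subgroup (Equiv.Perm α)))
    obtain ⟨f₁, g₁, -, -, rfl⟩ := (mem_evenWreath _).1 (hd.1 ha)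
    obtain ⟨f₂, g₂, -, -, rfl⟩ := (mem_evenWreath _).1 (hd.2.1 hb)
    rw [elt_mul] at hab
    obtain ⟨hv', hg⟩ := elt_inj hab
    have hb' := S₂.inv_mem hb
    rw [elt_inv] at hb'
    have hg2 : g₁ = g₂⁻¹ := mul_eq_one_iff_eq_inv.1 hg.symm
    rw [← hg2] at hb'
    obtain rfl := hmeet _ _ _ ha hb'
    rw [one_mul] at hg
    subst hg
    exact ⟨f₁, f₂, ha, hb, by simpa [Equiv.Perm.one_symm] using hv'⟩
  let M : Subgroup (Equiv.Perm (α × ZMod 2)) → Finset α := fun S =>
    Finset.univ.filter fun a => ∃ f g, elt f g ∈ S ∧ g a ≠ a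
  have hM : ∀ S a, a ∈ M S ↔ ∃ f g, elt f g ∈ S ∧ g a ≠ a := by intro S a; simp [M]
  have hcover : ∀ x, x ∈ M S₁ ∨ x ∈ M S₂ := by
    intro x
    by_contra hx
    push Not at hx
    rw [hM, hM] at hx
    push Not at hx
    obtain ⟨g, hg, hgx⟩ := hmove x
    obtain ⟨a, ha, b, hb, hab⟩ := exists_mul hd (top_mem hg)
    obtain ⟨f₁, g₁, -, -, rfl⟩ := (mem_evenWreath _).1 (hd.1 ha)
    obtain ⟨f₂, g₂, -, -, rfl⟩ := (mem_evenWreath _).1 (hd.2.1 hb)
    rw [elt_mul] at hab
    rw [(elt_inj hab).2, Equiv.Perm.mul_apply, hx.2 f₂ g₂ hb, hx.1 f₁ g₁ ha] at hgx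
    exact hgx rfl
  have hdisj : Disjoint (M S₁) (M S₂) := by
    rw [Finset.disjoint_left]
    intro x hx1 hx2
    rw [hM] at hx1 hx2
    obtain ⟨f, g, hfg, hgx⟩ := hx1
    obtain ⟨f', h, hfh, hhx⟩ := hx2
    have hcomm : g * h = h * g := by
      have := hd.2.2.1 _ hfg _ hfh
      rw [elt_mul, elt_mul] at this
      exact (elt_inj this).2
    have h4 : ∀ v : α → ZMod 2, ∑ a, v a = 0 → v x + v (g x) + v (h x) + v (g (h x)) = 0 := by
      intro v hv
      obtain ⟨f₁, f₂, hf1, hf2, rfl⟩ := hsplit v hv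
      have e1 := fixed_of_commute hd hf1 hfh
      have e2 := fixed_of_commute hd' hf2 hfg
      have e3 : f₁ (g (h x)) = f₁ (g x) := by
        rw [show g (h x) = h (g x) from Equiv.congr_fun hcomm x]
        exact e1 _
      simp only [Pi.add_apply, e1 x, e2 x, e2 (h x), e3]
      have key : ∀ p q r s : ZMod 2, p + q + (r + q) + (p + s) + (r + s) = 0 := by decide
      exact key _ _ _ _
    have hz : g x = h x := by
      by_contra hne
      obtain ⟨b, hb⟩ : ∃ b, b ∉ ({x, g x, h x, g (h x)} : Finset α) := by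
        by_contra h'; push Not at h'
        have := Finset.card_le_card (s := Finset.univ) (fun y _ => h' y)
        have h2 : ({x, g x, h x, g (h x)} : Finset α).card ≤ 4 := Finset.card_le_four
        rw [Finset.card_univ] at this
        omega
      simp only [Finset.mem_insert, Finset.mem_singleton, not_or] at hb
      obtain ⟨b1, b2, b3, b4⟩ := hb
      have := h4 _ (sum_two (g x) b)
      simp [two, hgx, Ne.symm hgx, Ne.symm hne, hhx, Ne.symm b1, Ne.symm b2, Ne.symm b3, Ne.symm b4,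
        g.injective.ne_iff] at this
    obtain ⟨b, hb⟩ : ∃ b, b ∉ ({x, g x} : Finset α) := by
      by_contra h'; push Not at h'
      have := Finset.card_le_card (s := Finset.univ) (fun y _ => h' y)
      have h2 : ({x, g x} : Finset α).card ≤ 2 := Finset.card_le_two
      rw [Finset.card_univ] at this
      omega
    simp only [Finset.mem_insert, Finset.mem_singleton, not_or] at hb
    obtain ⟨f₁, f₂, hf1, hf2, hv⟩ := hsplit _ (sum_two x b)
    have e : two x b x = two x b (g x) := by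
      rw [hv, Pi.add_apply, Pi.add_apply, fixed_of_commute hd' hf2 hfg x, hz,
        fixed_of_commute hd hf1 hfh x]
    simp [two, hgx, Ne.symm hb.1, Ne.symm hb.2] at e
  -- a parity obstruction
  have hsum : ∀ (S T : Subgroup (Equiv.Perm (α × ZMod 2))),
      Cfsg.IsInternalDirectProduct S T (evenWreath (Q : Subgroup (Equiv.Perm α))) →
      ∀ f, elt f 1 ∈ S → ∑ a ∈ M T, f a = 0 := by
    intro S T hST f hf
    let K : Subgroup (Equiv.Perm α) :=
      { carrier := {g | ∃ f, elt f g ∈ T}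
        one_mem' := ⟨0, by rw [elt_one]; exact T.one_mem⟩
        mul_mem' := by
          rintro g g' ⟨f, hf⟩ ⟨f', hf'⟩
          exact ⟨_, elt_mul f f' g g' ▸ T.mul_mem hf hf'⟩
        inv_mem' := by
          rintro g ⟨f, hf⟩
          exact ⟨_, elt_inv f g ▸ T.inv_mem hf⟩ }
    have hK : IsPGroup 2 K := IsPGroup.to_le Q.isPGroup' (by
      rintro g ⟨f, hf⟩; exact (elt_mem.1 (hST.2.1 hf)).1)
    refine sum_eq_zero_of_invariant hK _ ?_ ?_ f ?_
    · intro g hg a ha
      rw [hM] at ha ⊢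
      obtain ⟨f'', k, hk, hka⟩ := ha
      obtain ⟨f', hf'⟩ := hg
      have := T.mul_mem (T.mul_mem hf' hk) (T.inv_mem hf')
      rw [elt_mul, elt_inv, elt_mul] at this
      refine ⟨_, _, this, ?_⟩
      simpa using fun e => hka (g.injective e)
    · intro a ha
      rw [hM] at ha
      obtain ⟨f'', k, hk, hka⟩ := ha
      exact ⟨k, ⟨f'', hk⟩, hka⟩
    · rintro g ⟨f', hf'⟩ a
      exact fixed_of_commute hST hf hf' a
  rcases (M S₁).eq_empty_or_nonempty with he | ⟨a, ha⟩
  · refine h1 (eq_bot_of_base Q (by omega) hmove hprop hd' fun b hb => ?_)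
    obtain ⟨f, g, -, -, rfl⟩ := (mem_evenWreath _).1 (hd.1 hb)
    refine ⟨f, ?_⟩
    rw [show g = 1 from Equiv.ext fun c => ?_]
    by_contra hc
    have : c ∈ M S₁ := (hM _ _).2 ⟨f, g, hb, hc⟩
    rw [he] at this
    simp at this
  rcases (M S₂).eq_empty_or_nonempty with he | ⟨b, hb⟩
  · refine h2 (eq_bot_of_base Q (by omega) hmove hprop hd fun b hb => ?_)
    obtain ⟨f, g, -, -, rfl⟩ := (mem_evenWreath _).1 (hd.2.1 hb)
    refine ⟨f, ?_⟩
    rw [show g = 1 from Equiv.ext fun c => ?_]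
    by_contra hc
    have : c ∈ M S₂ := (hM _ _).2 ⟨f, g, hb, hc⟩
    rw [he] at this
    simp at this
  obtain ⟨f₁, f₂, hf1, hf2, hv⟩ := hsplit _ (sum_two a b)
  have hu : M S₁ ∪ M S₂ = Finset.univ := Finset.eq_univ_of_forall fun x =>
    Finset.mem_union.2 (hcover x)
  have hf10 : ∑ c, f₁ c = 0 := (elt_mem.1 (hd.1 hf1)).2
  rw [← hu, Finset.sum_union hdisj, hsum S₁ S₂ hd f₁ hf1, add_zero] at hf10
  have hf20 := hsum S₂ S₁ hd' f₂ hf2
  have : ∑ c ∈ M S₁, two a b c = 0 := by
    rw [hv]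
    simp only [Pi.add_apply, Finset.sum_add_distrib, hf10, hf20, add_zero]
  have hb' : b ∉ M S₁ := Finset.disjoint_right.1 hdisj hb
  simp [two, Finset.sum_add_distrib, Finset.sum_ite_eq', ha, hb'] at this

/-- In odd degree with two nontrivial orbits the group decomposes. -/
theorem dec_odd {p₀ x y : α} (hp : ∀ g ∈ (Q : Subgroup (Equiv.Perm α)), g p₀ = p₀)
    (hx : x ≠ p₀) (hy : y ≠ p₀) (hxy : y ∉ orb Q x) :
    Dec (evenWreath (Q : Subgroup (Equiv.Perm α))) := by
  classical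
  set O := orb Q x
  have hpO : p₀ ∉ O := fun h => by
    obtain ⟨g, hg, hgx⟩ := (mem_orb Q).1 h
    exact hx (g.injective (hgx.trans (hp g hg).symm))
  have hsymm : ∀ g ∈ (Q : Subgroup (Equiv.Perm α)), ∀ a, g.symm a ∈ O ↔ a ∈ O := fun g hg a => by
    have := orb_inv Q x g hg (g.symm a)
    rw [Equiv.apply_symm_apply] at this
    exact this.symm
  let Sub : (α → Prop) → Subgroup (Equiv.Perm (α × ZMod 2)) := fun P =>
    { carrier := {e | ∃ f g, g ∈ (Q : Subgroup (Equiv.Perm α)) ∧ ∑ a, f a = 0 ∧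
          (∀ a, P a → g a = a ∧ f a = 0) ∧ e = elt f g}
      one_mem' := ⟨0, 1, Subgroup.one_mem _, by simp, fun a _ => ⟨rfl, rfl⟩, elt_one.symm⟩
      mul_mem' := by
        rintro _ _ ⟨f, g, hg, hf, hP, rfl⟩ ⟨f', g', hg', hf', hP', rfl⟩
        refine ⟨_, _, Subgroup.mul_mem _ hg hg', ?_, fun a ha => ?_, elt_mul f f' g g'⟩
        · simp only [Pi.add_apply, Function.comp_apply, Finset.sum_add_distrib, hf, zero_add]
          rw [Equiv.sum_comp g.symm f', hf']
        · refine ⟨by rw [Equiv.Perm.mul_apply, (hP' a ha).1, (hP a ha).1], ?_⟩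
          have : g.symm a = a := by rw [Equiv.symm_apply_eq, (hP a ha).1]
          simp [this, (hP a ha).2, (hP' a ha).2]
      inv_mem' := by
        rintro _ ⟨f, g, hg, hf, hP, rfl⟩
        refine ⟨_, _, Subgroup.inv_mem _ hg, ?_, fun a ha => ?_, elt_inv f g⟩
        · simp only [Function.comp_apply, Pi.neg_apply, Finset.sum_neg_distrib]
          rw [Equiv.sum_comp g f, hf, neg_zero]
        · refine ⟨by rw [Equiv.Perm.inv_eq_iff_eq, (hP a ha).1], ?_⟩
          simp [(hP a ha).1, (hP a ha).2] }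
  have hSub : ∀ P e, e ∈ Sub P ↔ ∃ f g, g ∈ (Q : Subgroup (Equiv.Perm α)) ∧ ∑ a, f a = 0 ∧
      (∀ a, P a → g a = a ∧ f a = 0) ∧ e = elt f g := fun P e => Iff.rfl
  have hle : ∀ P, Sub P ≤ evenWreath (Q : Subgroup (Equiv.Perm α)) := by
    rintro P _ ⟨f, g, hg, hf, -, rfl⟩
    exact elt_mem.2 ⟨hg, hf⟩
  refine ⟨Sub (fun a => a ∉ O ∧ a ≠ p₀), Sub (fun a => a ∈ O), ?_, ?_, hle _, hle _, ?_, ?_, ?_⟩
  · intro h
    have hm : elt (two x p₀) 1 ∈ Sub (fun a => a ∉ O ∧ a ≠ p₀) :=
      (hSub _ _).2 ⟨_, _, Subgroup.one_mem _, sum_two x p₀, fun a ha => ⟨rfl, by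
        have : a ≠ x := fun e => ha.1 (e ▸ self_mem_orb Q x)
        simp [two, this, ha.2]⟩, rfl⟩
    rw [h, Subgroup.mem_bot] at hm
    have := congrFun (elt_eq_one hm).1 x
    simp [two, hx] at this
  · intro h
    have hm : elt (two y p₀) 1 ∈ Sub (fun a => a ∈ O) :=
      (hSub _ _).2 ⟨_, _, Subgroup.one_mem _, sum_two y p₀, fun a ha => ⟨rfl, by
        have h1 : a ≠ y := fun e => hxy (e ▸ ha)
        have h2 : a ≠ p₀ := fun e => hpO (e ▸ ha)
        simp [two, h1, h2]⟩, rfl⟩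
    rw [h, Subgroup.mem_bot] at hm
    have := congrFun (elt_eq_one hm).1 y
    simp [two, hy] at this
  · rintro _ ⟨f, g, hg, hf, hP, rfl⟩ _ ⟨f', g', hg', hf', hP', rfl⟩
    rw [elt_mul, elt_mul]
    have hgg : g * g' = g' * g := by
      ext a
      simp only [Equiv.Perm.mul_apply]
      by_cases ha : a ∈ O
      · rw [(hP' a ha).1, (hP' (g a) ((orb_inv Q x g hg a).2 ha)).1]
      · rcases eq_or_ne a p₀ with rfl | ha'
        · rw [hp g' hg', hp g hg, hp g' hg']
        · rw [(hP a ⟨ha, ha'⟩).1, (hP (g' a) ⟨fun h => ha ((orb_inv Q x g' hg' a).1 h),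
            fun h => ha' (g'.injective (h.trans (hp g' hg').symm))⟩).1]
    have hff : f + f' ∘ g.symm = f' + f ∘ g'.symm := by
      funext a
      simp only [Pi.add_apply, Function.comp_apply]
      have hgs : g.symm a = a ∨ (a ∈ O ∧ g.symm a ∈ O) := by
        by_cases ha : a ∈ O
        · exact Or.inr ⟨ha, (hsymm g hg a).2 ha⟩
        · left
          rw [Equiv.symm_apply_eq]
          rcases eq_or_ne a p₀ with rfl | ha'
          · rw [hp g hg]
          · rw [(hP a ⟨ha, ha'⟩).1]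
      have hgs' : g'.symm a = a ∨ (a ∉ O ∧ a ≠ p₀ ∧ g'.symm a ∉ O ∧ g'.symm a ≠ p₀) := by
        by_cases ha : a ∈ O
        · left; rw [Equiv.symm_apply_eq, (hP' a ha).1]
        rcases eq_or_ne a p₀ with rfl | ha'
        · left; rw [Equiv.symm_apply_eq, hp g' hg']
        refine Or.inr ⟨ha, ha', fun h => ha ((hsymm g' hg' a).1 h), fun h => ha' ?_⟩
        rw [← Equiv.apply_symm_apply g' a, h, hp g' hg']
      have e1 : f' (g.symm a) = f' a := by
        rcases hgs with h | ⟨h, h'⟩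
        · rw [h]
        · rw [(hP' a h).2, (hP' _ h').2]
      have e2 : f (g'.symm a) = f a := by
        rcases hgs' with h | ⟨h1, h2, h3, h4⟩
        · rw [h]
        · rw [(hP a ⟨h1, h2⟩).2, (hP _ ⟨h3, h4⟩).2]
      rw [e1, e2, add_comm]
    rw [hgg, hff]
  · rw [Subgroup.eq_bot_iff_forall]
    rintro e ⟨h1, h2⟩
    obtain ⟨f, g, hg, hf, hP, rfl⟩ := (hSub _ _).1 h1
    obtain ⟨f', g', -, -, hP', he⟩ := (hSub _ _).1 h2
    obtain ⟨rfl, rfl⟩ := elt_inj he
    have hg1 : g = 1 := by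
      ext a
      by_cases ha : a ∈ O
      · simp [(hP' a ha).1]
      rcases eq_or_ne a p₀ with rfl | ha'
      · simp [hp g hg]
      · simp [(hP a ⟨ha, ha'⟩).1]
    have hf0 : ∀ a, a ≠ p₀ → f a = 0 := fun a ha' => by
      by_cases ha : a ∈ O
      · exact (hP' a ha).2
      · exact (hP a ⟨ha, ha'⟩).2
    have hfp : f p₀ = 0 := by
      rw [Finset.sum_eq_single p₀ (fun a _ h => hf0 a h) (by simp)] at hf
      exact hf
    rw [hg1, show f = 0 from funext fun a => ?_, elt_one]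
    rcases eq_or_ne a p₀ with rfl | ha'
    · exact hfp
    · exact hf0 a ha'
  · refine le_antisymm (sup_le (hle _) (hle _)) ?_
    intro e he
    obtain ⟨f, g, hg, hf, rfl⟩ := (mem_evenWreath _).1 he
    set g₁ := restr (Q : Subgroup (Equiv.Perm α)) O (orb_inv Q x) ⟨g, hg⟩
    have hg₁ : g₁ ∈ (Q : Subgroup (Equiv.Perm α)) := restr_mem Q (orb_inv Q x) ⟨g, hg⟩
    let f₁ : α → ZMod 2 := fun a =>
      (if a ∈ O then f a else 0) + if a = p₀ then ∑ c ∈ O, f c else 0
    have hf₁ : ∑ a, f₁ a = 0 := by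
      simp only [f₁, Finset.sum_add_distrib, Finset.sum_ite_eq', Finset.mem_univ, if_true,
        Finset.sum_ite_mem, Finset.univ_inter]
      exact CharTwo.add_self_eq_zero _
    have hf₂ : ∑ a, (f + f₁) a = 0 := by
      simp only [Pi.add_apply, Finset.sum_add_distrib, hf, hf₁, add_zero]
    have hP2 : ∀ a, a ∈ O → (g₁⁻¹ * g) a = a ∧ (f + f₁) a = 0 := by
      intro a ha
      refine ⟨?_, ?_⟩
      · rw [Equiv.Perm.mul_apply, Equiv.Perm.inv_eq_iff_eq,
          restr_of_mem (orb_inv Q x) ⟨g, hg⟩ ha]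
      · have : a ≠ p₀ := fun e => hpO (e ▸ ha)
        simp [f₁, ha, this, CharTwo.add_self_eq_zero]
    have key : elt f g = elt f₁ g₁ * elt (f + f₁) (g₁⁻¹ * g) := by
      rw [elt_mul, mul_inv_cancel_left]
      congr 1
      funext a
      simp only [Pi.add_apply, Function.comp_apply]
      by_cases ha : a ∈ O
      · have ha2 : g₁.symm a ∈ O := (hsymm g₁ hg₁ a).2 ha
        have := (hP2 _ ha2).2
        rw [Pi.add_apply] at this
        rw [this, add_zero]
        have : a ≠ p₀ := fun e => hpO (e ▸ ha)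
        simp [f₁, ha, this]
      · have : g₁.symm a = a := by
          rw [Equiv.symm_apply_eq, restr_of_not_mem (orb_inv Q x) ⟨g, hg⟩ ha]
        rw [this]
        have : ∀ s t : ZMod 2, s = t + (s + t) := by decide
        exact this _ _
    rw [key]
    refine Subgroup.mul_mem _ (Subgroup.mem_sup_left ((hSub _ _).2 ⟨f₁, g₁, hg₁, hf₁, fun a ha => ?_, rfl⟩))
      (Subgroup.mem_sup_right ((hSub _ _).2
        ⟨_, _, Subgroup.mul_mem _ (Subgroup.inv_mem _ hg₁) hg, hf₂, hP2, rfl⟩))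
    exact ⟨restr_of_not_mem (orb_inv Q x) ⟨g, hg⟩ ha.1, by simp [f₁, ha.1, ha.2]⟩

end CfsgLib.Perm.SylowTwoDecomp
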